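import Cfsg.Agent.CosetEnum.Upper
import Cfsg.Agent.J2Model.Setup

set_option autoImplicit false
set_option maxRecDepth 100000

/-! Coset table on 2 cosets and its certificate (generated). -/

namespace CfsgLib.J2Model.LA

open CfsgLib.CosetEnum

def t0 : ℕ := 0x1

/-- The packed table of a letter. -/
noncomputable def tb (x : ℕ) : ℕ := t0

def parN : ℕ := 0x0
def parX : ℕ := 0x0

/-- The relators in local letters. -/
def rels : List (List ℕ) := [[0, 0]]

/-- Relators, then subgroup generators. -/
def allW : List (List ℕ) := [[0, 0]]

/-- The enumeration. -/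
noncomputable def enum : Local CfsgLib.J2Model.setup where
  L := [0]
  L' := []
  known := []
  known_one := fun v hv => absurd hv List.not_mem_nil
  rels := rels
  rels_ok := by decide +kernel
  subs := []
  subs_ok := by decide +kernel
  all := allW
  all_eq := by decide +kernel
  n := 2
  tb := tb
  parN := parN
  parX := parX

/-- The word with a given index. -/
def wd (r : ℕ) : List ℕ := allW.getD r []

def B0 : ℕ := 0x3

theorem step0 : runTree 1 tb id parN parX 1 = B0 := by decide +kernel

theorem good0 : enum.Good B0 := enum.good_tree 1 _ step0

theorem full : B0 = 2 ^ (enum.n * enum.L.length) - 1 := by decide +kernel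

theorem valid : allR (validEntry 2 1 tb id) 1 0 = true := by decide +kernel

/-- The order bound. -/
theorem bound (m : ℕ) (h : Finite (CfsgLib.J2Model.setup.letSub enum.L') ∧
    Nat.card (CfsgLib.J2Model.setup.letSub enum.L') ≤ m) :
    Finite (CfsgLib.J2Model.setup.letSub enum.L) ∧ Nat.card (CfsgLib.J2Model.setup.letSub enum.L) ≤ 2 * m :=
  enum.bound (d := 1) (B := B0) (by decide +kernel) (by decide +kernel) (by decide +kernel) good0 valid full h.1 h.2

end CfsgLib.J2Model.LA
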