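import Cfsg.Agent.CosetEnum.Upper
import Cfsg.Agent.J2Model.Setup

set_option autoImplicit false
set_option maxRecDepth 100000

/-! Coset table on 5 cosets and its certificate (generated). -/

namespace CfsgLib.J2Model.LB

open CfsgLib.CosetEnum

def t0 : ℕ := 0x300004000010000200000
def t1 : ℕ := 0x400002000030000000001

/-- The packed table of a letter. -/
noncomputable def tb (x : ℕ) : ℕ := (bif Nat.beq x 0 then t0 else t1)

def parN : ℕ := 0x300002000010000000000
def parX : ℕ := 0x1000000000100000

/-- The relators in local letters. -/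
def rels : List (List ℕ) := [[0, 0],
  [0, 1, 0, 1, 0, 1, 0, 1, 0, 1],
  [1, 1]]

/-- Relators, then subgroup generators. -/
def allW : List (List ℕ) := [[0, 0],
  [0, 1, 0, 1, 0, 1, 0, 1, 0, 1],
  [1, 1],
  [0]]

/-- The enumeration. -/
noncomputable def enum : Local CfsgLib.J2Model.setup where
  L := [0, 1]
  L' := [0]
  known := []
  known_one := fun v hv => absurd hv List.not_mem_nil
  rels := rels
  rels_ok := by decide +kernel
  subs := [0]
  subs_ok := by decide +kernel
  all := allW
  all_eq := by decide +kernel
  n := 5
  tb := tb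
  parN := parN
  parX := parX

/-- The word with a given index. -/
def wd (r : ℕ) : List ℕ := allW.getD r []

def B0 : ℕ := 0x1fe

theorem step0 : runTree 2 tb id parN parX 3 = B0 := by decide +kernel

theorem good0 : enum.Good B0 := enum.good_tree 3 _ step0

def D1 : ℕ := 0x1050000000300

def B1 : ℕ := 0x3ff

theorem step1 : runDed 2 tb id wd 3 4 1 D1 B0 = B1 := by decide +kernel

theorem good1 : enum.Good B1 :=
  enum.good_ded 1 D1 3 4 _ _ rfl rfl good0 step1

theorem full : B1 = 2 ^ (enum.n * enum.L.length) - 1 := by decide +kernel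

theorem valid : allR (validEntry 5 2 tb id) 3 0 = true := by decide +kernel

/-- The order bound. -/
theorem bound (m : ℕ) (h : Finite (CfsgLib.J2Model.setup.letSub enum.L') ∧
    Nat.card (CfsgLib.J2Model.setup.letSub enum.L') ≤ m) :
    Finite (CfsgLib.J2Model.setup.letSub enum.L) ∧ Nat.card (CfsgLib.J2Model.setup.letSub enum.L) ≤ 5 * m :=
  enum.bound (d := 3) (B := B1) (by decide +kernel) (by decide +kernel) (by decide +kernel) good1 valid full h.1 h.2

end CfsgLib.J2Model.LB
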