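import Cfsg.Agent.SuzG2.Cert.G4E

set_option autoImplicit false
set_option maxRecDepth 100000

/-! The table on 416 cosets as an enumeration over the whole alphabet, with its coset action. -/

namespace CfsgLib.J2Model.LE

open CfsgLib.CosetEnum
open CfsgLib.SuzG2.G4E hiding enum good0 good1 good2 good3 good4 good5 good6 good7 good8 good9 good10 good11 good12 good13 full valid bound

/-- The enumeration over the whole alphabet. -/
noncomputable def enum : Enum CfsgLib.SuzG2.setup where
  n := 416
  sW := [[0], [1], [2], [3], [4]]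
  all := allW
  all_eq := by decide +kernel
  sW_lt := show ∀ w ∈ ([[0], [1], [2], [3], [4]] : List (List ℕ)), ∀ x ∈ w, x < 6 by decide
  tb := tb
  parN := parN
  parX := parX

theorem good0 : enum.Good B0 := enum.good_tree 9 _ step0

theorem good1 : enum.Good B1 :=
  enum.good_ded 9 D1 24 29 _ _ rfl rfl good0 step1

theorem good2 : enum.Good B2 :=
  enum.good_ded 6 D2 24 29 _ _ rfl rfl good1 step2

theorem good3 : enum.Good B3 :=
  enum.good_grant F3 188 0 P3 24 29 _ _ rfl rfl good2 step3

theorem good4 : enum.Good B4 :=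
  enum.good_ded 3 D4 24 29 _ _ rfl rfl good3 step4

theorem good5 : enum.Good B5 :=
  enum.good_grant F5 40 1 P5 24 29 _ _ rfl rfl good4 step5

theorem good6 : enum.Good B6 :=
  enum.good_ded 3 D6 24 29 _ _ rfl rfl good5 step6

theorem good7 : enum.Good B7 :=
  enum.good_grant F7 43 5 P7 24 29 _ _ rfl rfl good6 step7

theorem good8 : enum.Good B8 :=
  enum.good_grant F8 60 5 P8 24 29 _ _ rfl rfl good7 step8

theorem good9 : enum.Good B9 :=
  enum.good_ded 2 D9 24 29 _ _ rfl rfl good8 step9

theorem good10 : enum.Good B10 :=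
  enum.good_grant F10 37 1 P10 24 29 _ _ rfl rfl good9 step10

theorem good11 : enum.Good B11 :=
  enum.good_ded 8 D11 24 29 _ _ rfl rfl good10 step11

theorem good12 : enum.Good B12 :=
  enum.good_grant F12 345 0 P12 24 29 _ _ rfl rfl good11 step12

theorem good13 : enum.Good B13 :=
  enum.good_ded 8 D13 24 29 _ _ rfl rfl good12 step13

theorem full : B13 = 2 ^ (enum.n * 6) - 1 := by decide +kernel

theorem valid : allR (validEntry 416 6 tb id) 9 0 = true := by decide +kernel

theorem treeValid : allR (treeOK 416 6 tb parN parX) 9 0 = true := by decide +kernel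

theorem fixes : (allW.take (allW.length - 5)).all (fun w => fixesAll 416 tb w 9) = true := by
  decide +kernel

theorem words_take : CfsgLib.SuzG2.setup.words = allW.take (allW.length - 5) := by decide +kernel

theorem fixesZero : enum.sW.all (fun w => Nat.beq (walk tb w 0) 0) = true := by decide +kernel

noncomputable instance neZero : NeZero enum.n := ⟨by decide +kernel⟩

/-- The coset action. -/
theorem action :
    ∃ (φ : CfsgLib.SuzG2.setup.Grp →* Equiv.Perm (Fin enum.n)) (e : CfsgLib.SuzG2.setup.Grp ⧸ enum.H ≃ Fin enum.n),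
      (∀ (w : List ℕ), (∀ x ∈ w, x < CfsgLib.SuzG2.setup.k) → ∀ i : Fin enum.n,
        ((φ (prodw CfsgLib.SuzG2.setup.g w))⁻¹ i).val = walk enum.tb w i) ∧
      (∀ (y : CfsgLib.SuzG2.setup.Grp) (q : CfsgLib.SuzG2.setup.Grp ⧸ enum.H), e (y • q) = φ y (e q)) ∧
      e ((1 : CfsgLib.SuzG2.setup.Grp) : CfsgLib.SuzG2.setup.Grp ⧸ enum.H) = 0 :=
  enum.exists_action 9 B13 (by decide +kernel) (by decide +kernel) good13 full valid treeValid
    (by rw [words_take]; exact fixes) fixesZero

end CfsgLib.J2Model.LE
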